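import Groth.Agent.Lib.FibVal4
import Groth.Agent.Lib.RedSep.Basic

/-!
# Dimensions of closures of sections in the fibres
-/

universe u

open CategoryTheory AlgebraicGeometry Topology TopologicalSpace Limits Groth.Agent.FibDim14

set_option backward.isDefEq.respectTransparency.types false
set_option linter.style.haveILetI false

namespace Groth.Agent.SecDim20

/-- The dimension of a fibre is bounded by the dimensions at its points. -/
theorem dim_fibre_le {X S : Scheme.{u}} (f : X ⟶ S) [LocallyOfFiniteType f] (s : S) (c : WithBot ℕ∞)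
    (h : ∀ x, f x = s → FlatMor.fibreDimAt f x ≤ c) : topologicalKrullDim ↥(f ⁻¹' {s}) ≤ c := by
  rw [TopDimLib.dim_eq_iSup_localDim]
  refine iSup_le fun ⟨x, hx⟩ => ?_
  obtain rfl : f x = s := hx
  rw [← fibreDimAt_eq_localDim_preimage]
  exact h x rfl

/-- A reduced closed subscheme on a closed set. -/
theorem exists_closed_subscheme {X : Scheme.{u}} {C : Set X} (hC : IsClosed C) :
    ∃ (Z : Scheme.{u}) (i : Z ⟶ X), IsClosedImmersion i ∧ Set.range i = C := by
  refine ⟨(Scheme.IdealSheafData.vanishingIdeal ⟨C, hC⟩).subscheme,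
    (Scheme.IdealSheafData.vanishingIdeal ⟨C, hC⟩).subschemeι, inferInstance, ?_⟩
  rw [Scheme.IdealSheafData.range_subschemeι]
  simp

/-- The closure of a subset of a quasi-compact fibre is the closure of finitely many of its points'
closures: every point of it is a specialization of a point of the fibre in the closure. -/
theorem exists_generization_in_fibre {X S : Scheme.{u}} (g : X ⟶ S) [LocallyOfFiniteType g] [QuasiCompact g]
    {γ : S} {E : Set X} (hE : E ⊆ g ⁻¹' {γ}) {x : X} (hx : x ∈ closure E) :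
    ∃ η, η ∈ closure E ∧ g η = γ ∧ η ⤳ x := by
  let F := g.fiber γ
  haveI : LocallyOfFiniteType (g.fiberToSpecResidueField γ) := inferInstanceAs (LocallyOfFiniteType (pullback.snd _ _))
  haveI : IsLocallyNoetherian F := LocallyOfFiniteType.isLocallyNoetherian (g.fiberToSpecResidueField γ)
  haveI : QuasiCompact (g.fiberToSpecResidueField γ) := inferInstanceAs (QuasiCompact (pullback.snd _ _))
  haveI : CompactSpace ↥(Spec (S.residueField γ)) := inferInstanceAs (CompactSpace (PrimeSpectrum _))
  haveI : CompactSpace F := QuasiCompact.compactSpace_of_compactSpace (g.fiberToSpecResidueField γ)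
  haveI : AlgebraicGeometry.IsNoetherian F := {}
  let emb := g.fiberι γ
  have hemb : Set.range emb = g ⁻¹' {γ} := Scheme.Hom.range_fiberι g γ
  let E' : Set F := closure (emb ⁻¹' E)
  haveI : NoetherianSpace E' := NoetherianSpace.set _
  have hfin : (irreducibleComponents E').Finite := NoetherianSpace.finite_irreducibleComponents
  haveI := hfin.to_subtype
  have hgen : ∀ Z : irreducibleComponents E', ∃ p : F, p ∈ E' ∧ Subtype.val '' (Z : Set E') ⊆ closure {p} := by
    intro Z
    have hirr : IsIrreducible (closure (Subtype.val '' (Z : Set E'))) :=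
      (Z.2.1.image _ continuous_subtype_val.continuousOn).closure
    obtain ⟨p, hp⟩ := QuasiSober.sober hirr isClosed_closure
    refine ⟨p, ?_, subset_closure.trans hp.symm.le⟩
    refine closure_minimal ?_ isClosed_closure hp.mem
    rintro _ ⟨z, -, rfl⟩; exact z.2
  choose p hpE hp using hgen
  have hsub : E ⊆ ⋃ Z, closure {emb (p Z)} := fun e he => by
    obtain ⟨e', rfl⟩ : e ∈ Set.range emb := hemb.ge (hE he)
    let e'' : E' := ⟨e', subset_closure he⟩
    refine Set.mem_iUnion.2 ⟨⟨_, irreducibleComponent_mem_irreducibleComponents e''⟩, ?_⟩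
    exact specializes_iff_mem_closure.1 ((specializes_iff_mem_closure.2
      (hp _ ⟨e'', mem_irreducibleComponent, rfl⟩)).map emb.continuous)
  obtain ⟨Z, hZ⟩ := Set.mem_iUnion.1 (closure_minimal hsub (isClosed_iUnion_of_finite fun _ => isClosed_closure) hx)
  refine ⟨emb (p Z), ?_, hemb.le ⟨_, rfl⟩, specializes_iff_mem_closure.2 hZ⟩
  exact closure_mono (Set.image_preimage_subset emb E) (image_closure_subset_closure_image emb.continuous ⟨p Z, hpE Z, rfl⟩)

/-- The fibre dimensions of the closures of a family of sections do not increase under specialization. -/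
theorem dim_closure_sections_le {Y S : Scheme.{u}} (f : Y ⟶ S) [LocallyOfFiniteType f] [QuasiCompact f]
    {ι : Type u} (a : ι → (S ⟶ Y)) (ha : ∀ i, a i ≫ f = 𝟙 S) {s₀ s₁ : S} (h : s₁ ⤳ s₀) :
    topologicalKrullDim ↥(f ⁻¹' {s₀} ∩ closure (Set.range fun i => a i s₀)) ≤
      topologicalKrullDim ↥(f ⁻¹' {s₁} ∩ closure (Set.range fun i => a i s₁)) := by
  by_cases hne : s₀ = s₁
  · subst hne; rfl
  obtain ⟨A, m, -, hcl, hgen⟩ := S4447.result (𝟙 S) s₁ s₀ (by simpa using h) (by simpa using hne)
  rw [Category.comp_id] at hgen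
  let K := S.residueField s₁
  let γ : Spec (CommRingCat.of A) := ⟨⊥, Ideal.isPrime_bot⟩
  let o : Spec (CommRingCat.of A) := IsLocalRing.closedPoint A
  let u := Spec.map (CommRingCat.ofHom A.subtype)
  have hu : ∀ t, u t = γ := fun t => by
    refine PrimeSpectrum.ext ?_
    rw [Subsingleton.elim (α := PrimeSpectrum K) t (IsLocalRing.closedPoint K)]
    refine le_bot_iff.1 fun x hx => Ideal.mem_bot.2 ?_
    have : (A.subtype x) ∈ IsLocalRing.maximalIdeal K := hx
    rw [IsLocalRing.maximalIdeal_eq_bot, Ideal.mem_bot] at this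
    exact Subtype.ext this
  have hmγ : m γ = s₁ := by
    have h1 := congrArg (fun k => k (IsLocalRing.closedPoint K : Spec K)) hgen
    rw [Scheme.Hom.comp_apply] at h1
    exact (congrArg m (hu _)).symm.trans (h1.trans (Scheme.fromSpecResidueField_apply _ _))
  let XA := pullback f m
  let π : XA ⟶ Y := pullback.fst f m
  let g : XA ⟶ Spec (CommRingCat.of A) := pullback.snd f m
  let aA : ι → (Spec (CommRingCat.of A) ⟶ XA) := fun i => pullback.lift (m ≫ a i) (𝟙 _)
    (by rw [Category.assoc, ha, Category.comp_id, Category.id_comp])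
  have hπa : ∀ i t, π (aA i t) = a i (m t) := fun i t => by
    rw [← Scheme.Hom.comp_apply, pullback.lift_fst, Scheme.Hom.comp_apply]
  have hga : ∀ i t, g (aA i t) = t := fun i t => by
    rw [← Scheme.Hom.comp_apply, pullback.lift_snd]; rfl
  let E : Set XA := Set.range fun i => aA i γ
  obtain ⟨Z, iZ, hiZ, hrZ⟩ := exists_closed_subscheme (isClosed_closure (s := E))
  haveI := hiZ
  let gZ := iZ ≫ g
  -- the generic fibre of the closure
  have hgenle : topologicalKrullDim ↥(gZ ⁻¹' {γ}) ≤
      topologicalKrullDim ↥(f ⁻¹' {s₁} ∩ closure (Set.range fun i => a i s₁)) := by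
    have hmem : ∀ z, gZ z = γ → π (iZ z) ∈ f ⁻¹' {s₁} ∩ closure (Set.range fun i => a i s₁) := fun z hz => by
      constructor
      · show f (π (iZ z)) = s₁
        rw [← Scheme.Hom.comp_apply π f, pullback.condition, Scheme.Hom.comp_apply]
        exact (congrArg m hz).trans hmγ
      · have hz' : iZ z ∈ closure E := hrZ.le ⟨z, rfl⟩
        refine closure_mono ?_ (image_closure_subset_closure_image π.continuous ⟨_, hz', rfl⟩)
        rintro _ ⟨_, ⟨i, rfl⟩, rfl⟩
        exact ⟨i, by rw [hπa, hmγ]⟩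
    refine IsInducing.topologicalKrullDim_le (f := fun z => ⟨π (iZ z.1), hmem z.1 z.2⟩) ?_
    -- the generic fibre embeds in the fibre over `s₁`
    let F := f.fiber s₁
    let j : F ⟶ XA := pullback.lift (f.fiberι s₁) (f.fiberToSpecResidueField s₁ ≫ u) (by
      rw [Category.assoc, hgen]; exact pullback.condition)
    have hjπ : j ≫ π = f.fiberι s₁ := pullback.lift_fst _ _ _
    have sqj : IsPullback j (f.fiberToSpecResidueField s₁) g u := by
      refine IsPullback.of_right (h₁₂ := π) (h₂₂ := m) (v₁₃ := f) ?_ (pullback.lift_snd _ _ _) (IsPullback.of_hasPullback f m)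
      rw [hjπ, hgen]
      exact IsPullback.of_hasPullback f (S.fromSpecResidueField s₁)
    have hsurj : ∀ x : XA, g x = γ → ∃ w, j w = x := fun x hx => by
      obtain ⟨w, hw, -⟩ := Scheme.exists_preimage_of_isPullback sqj x (IsLocalRing.closedPoint K : Spec K)
        (by rw [hx, hu])
      exact ⟨w, hw⟩
    choose w hw using fun z : ↥(gZ ⁻¹' {γ}) => hsurj (iZ z.1) z.2
    have hwι : ∀ z, f.fiberι s₁ (w z) = π (iZ z.1) := fun z => by
      rw [← hjπ, Scheme.Hom.comp_apply, hw]
    have h1 : IsInducing (fun z : ↥(gZ ⁻¹' {γ}) => iZ z.1) := iZ.isClosedEmbedding.isInducing.comp IsInducing.subtypeVal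
    refine ⟨le_antisymm (continuous_iff_le_induced.1
      ((π.continuous.comp (iZ.continuous.comp continuous_subtype_val)).subtype_mk _)) ?_⟩
    intro U hU
    obtain ⟨O, hO, rfl⟩ := h1.isOpen_iff.1 hU
    obtain ⟨O', hO', hOO'⟩ := (f.fiberι s₁).isEmbedding.isInducing.isOpen_iff.1 (hO.preimage j.continuous)
    refine isOpen_induced_iff.2 ⟨Subtype.val ⁻¹' O', hO'.preimage continuous_subtype_val, ?_⟩
    ext z
    show π (iZ z.1) ∈ O' ↔ iZ z.1 ∈ O
    rw [← hwι, ← hw z]
    exact Set.ext_iff.1 hOO' (w z)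
  -- the special fibre of the closure
  have hspec : topologicalKrullDim ↥(gZ ⁻¹' {o}) ≤ topologicalKrullDim ↥(gZ ⁻¹' {γ}) := by
    refine dim_fibre_le gZ o _ fun z hz => ?_
    obtain ⟨z₁, hz₁, he₁, hmax, hd₁⟩ := FibGen4.exists_isMaxFib gZ z
    obtain ⟨η, hη, hgη, hηz⟩ := exists_generization_in_fibre g (γ := γ) (E := E)
      (by rintro _ ⟨i, rfl⟩; exact hga i γ) (hrZ.le ⟨z₁, rfl⟩)
    obtain ⟨η', rfl⟩ := hrZ.ge hη
    have hη'z : η' ⤳ z₁ := iZ.isClosedEmbedding.isInducing.specializes_iff.1 hηz
    have hgη' : gZ η' = γ := hgη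
    obtain ⟨e1, e2⟩ := FibGen4.fibreDimAt_eq_of_valuationRing gZ hmax hη'z (congrArg PrimeSpectrum.asIdeal hgη')
    rw [← hd₁, e1, ← e2, fibreDimAt_eq_localDim_preimage]
    refine (TopDimLib.localDim_le _).trans ?_
    rw [hgη']
  -- the special fibre dominates the fibre over `s₀`
  obtain ⟨C, c, hc, hrC⟩ := exists_closed_subscheme (isClosed_closure (s := Set.range fun i => a i s₀))
  haveI := hc
  have hC : topologicalKrullDim ↥(f ⁻¹' {s₀} ∩ closure (Set.range fun i => a i s₀)) ≤
      topologicalKrullDim ↥((c ≫ f) ⁻¹' {s₀}) := by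
    have hr : ∀ y : ↥(f ⁻¹' {s₀} ∩ closure (Set.range fun i => a i s₀)), ∃ x : C, c x = y.1 :=
      fun y => hrC.ge y.2.2
    choose x hx using hr
    refine IsInducing.topologicalKrullDim_le (f := fun y => (⟨x y, by
      show (c ≫ f) (x y) = s₀
      rw [Scheme.Hom.comp_apply, hx]; exact y.2.1⟩ : ↥((c ≫ f) ⁻¹' {s₀}))) ?_
    have hcomp : IsInducing (fun x' : ↥((c ≫ f) ⁻¹' {s₀}) => c x'.1) :=
      c.isClosedEmbedding.isInducing.comp IsInducing.subtypeVal
    rw [← hcomp.of_comp_iff]
    simp only [Function.comp_def, hx]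
    exact IsInducing.subtypeVal
  refine hC.trans (le_trans ?_ (hspec.trans hgenle))
  refine dim_fibre_le (c ≫ f) s₀ _ fun x hx => ?_
  have sqC : IsPullback (pullback.fst (c ≫ f) m) (pullback.snd (c ≫ f) m) (c ≫ f) m := IsPullback.of_hasPullback _ _
  obtain ⟨xA, hxA, hgxA, -⟩ := exists_over_rd_eq sqC x o (hx.trans hcl.symm)
  rw [← hxA, ← fibreDimAt_baseChange sqC, fibreDimAt_eq_localDim_preimage]
  refine (TopDimLib.localDim_le _).trans ?_
  rw [show pullback.snd (c ≫ f) m xA = o from hgxA]
  -- the special fibre of the base change of `C` lies in the closure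
  let ψ : pullback (c ≫ f) m ⟶ XA := pullback.lift (pullback.fst _ _ ≫ c) (pullback.snd _ _)
    (by rw [Category.assoc, pullback.condition])
  have hψπ : ψ ≫ π = pullback.fst (c ≫ f) m ≫ c := pullback.lift_fst _ _ _
  have hψg : ψ ≫ g = pullback.snd (c ≫ f) m := pullback.lift_snd _ _ _
  have sqψ : IsPullback (pullback.fst (c ≫ f) m) ψ c π := by
    refine IsPullback.of_bot (h₃₁ := m) (v₂₁ := g) (v₂₂ := f) ?_ hψπ.symm (IsPullback.of_hasPullback f m)
    rw [hψg]; exact IsPullback.of_hasPullback _ _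
  haveI : IsClosedImmersion ψ := MorphismProperty.of_isPullback (P := @IsClosedImmersion) sqψ hc
  have hlift : ∀ q : ↥(pullback (c ≫ f) m), pullback.snd (c ≫ f) m q = o → ∃ z, iZ z = ψ q := fun q hq => by
    refine hrZ.ge ?_
    -- an open map onto the fibre over `s₀`
    have hfix : ψ q ∈ g ⁻¹' {o} := by
      show g (ψ q) = o
      rw [← Scheme.Hom.comp_apply, hψg]; exact hq
    have himg : π (ψ q) ∈ closure (Set.range fun i => a i s₀) := by
      rw [← Scheme.Hom.comp_apply, hψπ, Scheme.Hom.comp_apply]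
      exact hrC.le ⟨_, rfl⟩
    -- fibres
    let G := g.fiber o
    let ρ : Spec ((Spec (CommRingCat.of A)).residueField o) ⟶ Spec (S.residueField (m o)) :=
      Spec.map (m.residueFieldMap o)
    have hρ : ρ ≫ S.fromSpecResidueField (m o) = (Spec (CommRingCat.of A)).fromSpecResidueField o ≫ m :=
      Scheme.Hom.SpecMap_residueFieldMap_fromSpecResidueField m o
    let θ : G ⟶ f.fiber (m o) := pullback.lift (g.fiberι o ≫ π) (g.fiberToSpecResidueField o ≫ ρ) (by
      rw [Category.assoc, Category.assoc, hρ, pullback.condition (f := f) (g := m)]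
      exact pullback.condition_assoc _)
    have sqθ : IsPullback θ (g.fiberToSpecResidueField o) (f.fiberToSpecResidueField (m o)) ρ := by
      refine IsPullback.of_right (h₁₂ := f.fiberι (m o)) (h₂₂ := S.fromSpecResidueField (m o)) (v₁₃ := f) ?_
        (pullback.lift_snd _ _ _) (IsPullback.of_hasPullback _ _)
      rw [show θ ≫ f.fiberι (m o) = g.fiberι o ≫ π from pullback.lift_fst _ _ _, hρ]
      exact (IsPullback.of_hasPullback g _).paste_horiz (IsPullback.of_hasPullback f m)
    haveI : UniversallyOpen ρ := inferInstance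
    haveI : UniversallyOpen θ := MorphismProperty.of_isPullback (P := @UniversallyOpen) sqθ.flip inferInstance
    obtain ⟨q', hq'⟩ : ψ q ∈ Set.range (g.fiberι o) := (Scheme.Hom.range_fiberι g o).ge hfix
    let b : ι → f.fiber (m o) := fun i => (pullback.lift (S.fromSpecResidueField (m o) ≫ a i) (𝟙 _)
      (by rw [Category.assoc, ha, Category.comp_id, Category.id_comp]) : Spec (S.residueField (m o)) ⟶ f.fiber (m o))
        (IsLocalRing.closedPoint (S.residueField (m o)) : Spec (S.residueField (m o)))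
    have hb : ∀ i, f.fiberι (m o) (b i) = a i s₀ := fun i => by
      show (_ ≫ pullback.fst f _) _ = _
      rw [pullback.lift_fst, Scheme.Hom.comp_apply, Scheme.fromSpecResidueField_apply, hcl]
    have hθq : θ q' ∈ closure (Set.range b) := by
      rw [(f.fiberι (m o)).isEmbedding.isInducing.closure_eq_preimage_closure_image]
      show f.fiberι (m o) (θ q') ∈ closure (f.fiberι (m o) '' Set.range b)
      rw [← Scheme.Hom.comp_apply, show θ ≫ f.fiberι (m o) = g.fiberι o ≫ π from pullback.lift_fst _ _ _,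
        Scheme.Hom.comp_apply, hq', ← Set.range_comp]
      exact closure_mono (by rintro _ ⟨i, rfl⟩; exact ⟨i, hb i⟩) himg
    have hq'cl : q' ∈ closure (θ ⁻¹' Set.range b) := by
      rw [← θ.isOpenMap.preimage_closure_eq_closure_preimage θ.continuous]
      exact hθq
    rw [← hq']
    refine closure_minimal ?_ isClosed_closure (image_closure_subset_closure_image (g.fiberι o).continuous
      ⟨q', hq'cl, rfl⟩)
    rintro _ ⟨v, ⟨i, hi⟩, rfl⟩
    -- the preimage of a rational point is a single point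
    have hspz : aA i γ ⤳ aA i o :=
      ((PrimeSpectrum.le_iff_specializes γ o).1 bot_le).map (aA i).continuous
    let σ : Spec ((Spec (CommRingCat.of A)).residueField o) ⟶ G :=
      pullback.lift ((Spec (CommRingCat.of A)).fromSpecResidueField o ≫ aA i) (𝟙 _) (by
        rw [Category.assoc, pullback.lift_snd, Category.comp_id, Category.id_comp])
    let σ₀ : Spec (S.residueField (m o)) ⟶ f.fiber (m o) := pullback.lift (S.fromSpecResidueField (m o) ≫ a i) (𝟙 _)
      (by rw [Category.assoc, ha, Category.comp_id, Category.id_comp])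
    have hσι : σ ≫ g.fiberι o = (Spec (CommRingCat.of A)).fromSpecResidueField o ≫ aA i := pullback.lift_fst _ _ _
    have hσs : σ ≫ g.fiberToSpecResidueField o = 𝟙 _ := pullback.lift_snd _ _ _
    have hσ₀ι : σ₀ ≫ f.fiberι (m o) = S.fromSpecResidueField (m o) ≫ a i := pullback.lift_fst _ _ _
    have hσ₀s : σ₀ ≫ f.fiberToSpecResidueField (m o) = 𝟙 _ := pullback.lift_snd _ _ _
    have hθι : θ ≫ f.fiberι (m o) = g.fiberι o ≫ π := pullback.lift_fst _ _ _
    have hθs : θ ≫ f.fiberToSpecResidueField (m o) = g.fiberToSpecResidueField o ≫ ρ := pullback.lift_snd _ _ _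
    have sqσ : IsPullback σ ρ θ σ₀ := by
      have e1 : σ ≫ θ = ρ ≫ σ₀ := by
        refine pullback.hom_ext ?_ ?_
        · show (σ ≫ θ) ≫ f.fiberι (m o) = (ρ ≫ σ₀) ≫ f.fiberι (m o)
          rw [Category.assoc, hθι, reassoc_of% hσι, show aA i ≫ π = m ≫ a i from pullback.lift_fst _ _ _,
            Category.assoc, hσ₀ι, reassoc_of% hρ]
        · show (σ ≫ θ) ≫ f.fiberToSpecResidueField (m o) = (ρ ≫ σ₀) ≫ f.fiberToSpecResidueField (m o)
          rw [Category.assoc, hθs, reassoc_of% hσs, Category.assoc, hσ₀s, Category.comp_id]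
      refine (IsPullback.of_bot (v₂₁ := g.fiberToSpecResidueField o) (v₂₂ := f.fiberToSpecResidueField (m o))
        (h₃₁ := ρ) ?_ e1.symm sqθ).flip
      rw [hσs, hσ₀s]
      exact IsPullback.id_vert ρ
    obtain ⟨t, ht, -⟩ := Scheme.exists_preimage_of_isPullback sqσ v
      (IsLocalRing.closedPoint (S.residueField (m o)) : Spec (S.residueField (m o))) hi.symm
    rw [← ht, ← Scheme.Hom.comp_apply, hσι, Scheme.Hom.comp_apply, Scheme.fromSpecResidueField_apply]
    exact hspz.mem_closed isClosed_closure (subset_closure ⟨i, rfl⟩)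
  choose ζ hζ using fun q : ↥(pullback.snd (c ≫ f) m ⁻¹' {o}) => hlift q.1 q.2
  refine IsInducing.topologicalKrullDim_le (f := fun q => (⟨ζ q, by
    show gZ (ζ q) = o
    show g (iZ (ζ q)) = o
    rw [hζ, ← Scheme.Hom.comp_apply, hψg]; exact q.2⟩ : ↥(gZ ⁻¹' {o}))) ?_
  have hcomp : IsInducing (fun z : ↥(gZ ⁻¹' {o}) => iZ z.1) :=
    iZ.isClosedEmbedding.isInducing.comp IsInducing.subtypeVal
  rw [← hcomp.of_comp_iff]
  simp only [Function.comp_def, hζ]
  exact ψ.isClosedEmbedding.isInducing.comp IsInducing.subtypeVal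

end Groth.Agent.SecDim20
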